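import Mathlib

/-! Mann's lemma: an element of minimal class size commutes with an abelian normal subgroup
modulo the centre. -/

set_option autoImplicit false

namespace Cfsg.Agent.MinClass41

open Subgroup

variable {G : Type*} [Group G] [Finite G]

theorem index_eq_one_iff_central {x : G} :
    (centralizer ({x} : Set G)).index = 1 ↔ x ∈ center G := by
  rw [index_eq_one, Subgroup.mem_center_iff, eq_top_iff']
  simp only [mem_centralizer_singleton_iff]

theorem comm_mem_center (B : Subgroup G) [B.Normal] (hB : ∀ a ∈ B, ∀ b ∈ B, a * b = b * a)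
    (g : G)
    (hmin : ∀ x : G, 1 < (centralizer ({x} : Set G)).index →
      (centralizer ({g} : Set G)).index ≤ (centralizer ({x} : Set G)).index)
    (a : G) (ha : a ∈ B) : a * g * a⁻¹ * g⁻¹ ∈ center G := by
  classical
  set C := centralizer ({g} : Set G)
  have hmem : ∀ b ∈ B, b * g * b⁻¹ * g⁻¹ ∈ B := fun b hb => by
    have h := B.mul_mem hb (Subgroup.Normal.conj_mem inferInstance b⁻¹ (B.inv_mem hb) g)
    simpa [mul_assoc] using h
  let f : ↥B →* ↥B :=
    MonoidHom.mk' (fun b => ⟨b * g * (b : G)⁻¹ * g⁻¹, hmem b b.2⟩) (fun b c => by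
      apply Subtype.ext
      show ((b : G) * (c : G)) * g * ((b : G) * (c : G))⁻¹ * g⁻¹ = (↑b * g * (↑b : G)⁻¹ * g⁻¹) * (↑c * g * (↑c : G)⁻¹ * g⁻¹)
      rw [hB _ (hmem b b.2) _ (hmem c c.2)]
      have h1 := hB _ b.2 _ (hmem c c.2)
      calc (↑b * ↑c) * g * (↑b * ↑c : G)⁻¹ * g⁻¹
          = ↑b * (↑c * g * (↑c : G)⁻¹ * g⁻¹) * (g * (↑b : G)⁻¹ * g⁻¹) := by group
        _ = _ := by rw [h1]; group)
  set y : G := a * g * a⁻¹ * g⁻¹ with hy
  rcases eq_or_ne y 1 with h1 | h1
  · rw [h1]; exact one_mem _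
  set D := centralizer ({y} : Set G)
  have hBD : B ≤ D := fun b hb =>
    mem_centralizer_singleton_iff.2 (hB _ hb _ (hmem a ha))
  -- kernel
  have hker : f.ker = C.subgroupOf B := by
    ext b
    rw [MonoidHom.mem_ker, mem_subgroupOf, mem_centralizer_singleton_iff, Subtype.ext_iff]
    show ↑b * g * (↑b : G)⁻¹ * g⁻¹ = 1 ↔ _
    rw [mul_inv_eq_one, mul_inv_eq_iff_eq_mul]
  have hrange : Nat.card f.range = C.relIndex B := by
    rw [← Subgroup.index_ker, hker]
    rfl
  -- orbit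
  have horb : (D ⊓ C).relIndex C < C.relIndex B := by
    rw [← hrange]
    have hval : ∀ c : ↥C, ∃ z : f.range, ((z : ↥B) : G) = (c : G) * y * (c : G)⁻¹ := fun c => by
      refine ⟨⟨f ⟨(c : G) * a * (c : G)⁻¹, Subgroup.Normal.conj_mem inferInstance a ha c⟩,
        ⟨_, rfl⟩⟩, ?_⟩
      show ((c : G) * a * (c : G)⁻¹) * g * ((c : G) * a * (c : G)⁻¹)⁻¹ * g⁻¹ = _
      have hc := mem_centralizer_singleton_iff.1 c.2
      have hg : g = (c : G) * g * (c : G)⁻¹ := by rw [hc, mul_inv_cancel_right]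
      conv_lhs => rw [hg]
      rw [hy]; group
    choose z hz using hval
    let φ : ↥C ⧸ (D ⊓ C).subgroupOf C → f.range := fun q => z q.out
    have hφ : Function.Injective φ := by
      intro q r h
      have h2 : ((q.out : ↥C) : G) * y * ((q.out : ↥C) : G)⁻¹
          = ((r.out : ↥C) : G) * y * ((r.out : ↥C) : G)⁻¹ := by
        rw [← hz, ← hz]
        exact congrArg (fun w : f.range => ((w : ↥B) : G)) h
      rw [← QuotientGroup.out_eq' q, ← QuotientGroup.out_eq' r, QuotientGroup.eq, mem_subgroupOf]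
      refine mem_inf.2 ⟨?_, (q.out⁻¹ * r.out).2⟩
      rw [mem_centralizer_singleton_iff]
      push_cast
      have h3 := congrArg (fun w => ((q.out : ↥C) : G)⁻¹ * w * ((r.out : ↥C) : G)) h2
      simpa [mul_assoc] using h3.symm
    have hne : ∀ q, φ q ≠ 1 := fun q h => h1 (by
      have := hz q.out
      rw [show z q.out = 1 from h] at this
      have h5 : ((q.out : ↥C) : G) * y * ((q.out : ↥C) : G)⁻¹ = 1 := this.symm.trans rfl
      exact conj_eq_one_iff.1 h5)
    rw [relIndex, index_eq_card]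
    have : Fintype f.range := Fintype.ofFinite _
    have : Fintype (↥C ⧸ (D ⊓ C).subgroupOf C) := Fintype.ofFinite _
    rw [Nat.card_eq_fintype_card, Nat.card_eq_fintype_card]
    exact Fintype.card_lt_of_injective_of_notMem φ hφ (b := 1) (fun ⟨q, hq⟩ => hne q hq)
  have hle : C.relIndex B ≤ (D ⊓ C).relIndex D := by
    calc C.relIndex B ≤ (D ⊓ C).relIndex B :=
          Nat.le_of_dvd (Nat.pos_of_ne_zero index_ne_zero_of_finite) (relIndex_dvd_of_le_left _ inf_le_right)
      _ ≤ (D ⊓ C).relIndex D := relIndex_le_of_le_right hBD (index_ne_zero_of_finite)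
  have h2 := relIndex_mul_index (inf_le_left : D ⊓ C ≤ D)
  have h3 := relIndex_mul_index (inf_le_right : D ⊓ C ≤ C)
  have hlt : D.index < C.index := by
    have hD : 0 < D.index := Nat.pos_of_ne_zero index_ne_zero_of_finite
    by_contra hge
    have := Nat.mul_lt_mul_of_lt_of_le (lt_of_lt_of_le horb hle) (le_of_not_gt hge) hD
    omega
  rw [← index_eq_one_iff_central]
  by_contra hne
  have : 1 < D.index := by
    have : 0 < D.index := Nat.pos_of_ne_zero index_ne_zero_of_finite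
    change D.index ≠ 1 at hne
    omega
  exact absurd (hmin y this) (not_le.2 hlt)

end Cfsg.Agent.MinClass41

namespace Cfsg.Agent.MinClass41

open Subgroup

variable {G : Type*} [Group G] [Finite G]

omit [Finite G] in
theorem class_le_three (A M : Subgroup G) (hCA : centralizer (A : Set G) = A)
    (hM : ∀ x ∈ M, ∀ a ∈ A, a * x * a⁻¹ * x⁻¹ ∈ center G) :
    Subgroup.upperCentralSeries ↥M 3 = ⊤ := by
  have hconj : ∀ x ∈ M, ∀ a ∈ A, ∃ z ∈ center G, x * a * x⁻¹ = z * a ∧ x⁻¹ * a * x = z⁻¹ * a := by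
    intro x hx a ha
    have hz := hM x hx a ha
    set z := a * x * a⁻¹ * x⁻¹ with hz'
    have hc := mem_center_iff.1 hz
    have e : x * a * x⁻¹ = z⁻¹ * a := by rw [hz']; group
    refine ⟨z⁻¹, inv_mem hz, e, ?_⟩
    have hxa : x * a = z⁻¹ * a * x := by rw [← e]; group
    calc x⁻¹ * a * x = x⁻¹ * (z * (z⁻¹ * a * x)) := by group
      _ = x⁻¹ * (z * (x * a)) := by rw [hxa]
      _ = x⁻¹ * (z * x) * a := by group
      _ = x⁻¹ * (x * z) * a := by rw [hc x]
      _ = _ := by group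
  have hderA : ∀ x ∈ M, ∀ y ∈ M, x * y * x⁻¹ * y⁻¹ ∈ A := by
    intro x hx y hy
    rw [← hCA, mem_centralizer_iff]
    intro a ha
    obtain ⟨z, hz, e1, e2⟩ := hconj x hx a ha
    obtain ⟨w, hw, f1, f2⟩ := hconj y hy a ha
    have cz := mem_center_iff.1 hz
    have cw := mem_center_iff.1 hw
    have s1 : ∀ u t : G, t * (z * u) * t⁻¹ = z * (t * u * t⁻¹) := fun u t => by
      rw [show t * (z * u) = z * (t * u) by rw [← mul_assoc, cz t, mul_assoc]]; group
    have s2 : ∀ u t : G, t * (w * u) * t⁻¹ = w * (t * u * t⁻¹) := fun u t => by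
      rw [show t * (w * u) = w * (t * u) by rw [← mul_assoc, cw t, mul_assoc]]; group
    have s1' : ∀ u t : G, t * (z⁻¹ * u) * t⁻¹ = z⁻¹ * (t * u * t⁻¹) := fun u t => by
      rw [show t * (z⁻¹ * u) = z⁻¹ * (t * u) by
        rw [← mul_assoc, mem_center_iff.1 (inv_mem hz) t, mul_assoc]]; group
    have s2' : ∀ u t : G, t * (w⁻¹ * u) * t⁻¹ = w⁻¹ * (t * u * t⁻¹) := fun u t => by
      rw [show t * (w⁻¹ * u) = w⁻¹ * (t * u) by
        rw [← mul_assoc, mem_center_iff.1 (inv_mem hw) t, mul_assoc]]; group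
    have e2' : x⁻¹ * a * (x⁻¹)⁻¹ = z⁻¹ * a := by rw [inv_inv]; exact e2
    have f2' : y⁻¹ * a * (y⁻¹)⁻¹ = w⁻¹ * a := by rw [inv_inv]; exact f2
    have key : (x * y * x⁻¹ * y⁻¹) * a * (x * y * x⁻¹ * y⁻¹)⁻¹ = a := by
      rw [show (x * y * x⁻¹ * y⁻¹) * a * (x * y * x⁻¹ * y⁻¹)⁻¹
        = x * (y * (x⁻¹ * (y⁻¹ * a * (y⁻¹)⁻¹) * (x⁻¹)⁻¹) * y⁻¹) * x⁻¹ by group,
        f2', s2', e2', s2', s1', f1, s2', s1', s2, e1]
      rw [← mul_assoc z⁻¹ w, cw z⁻¹]; group
    exact (mul_inv_eq_iff_eq_mul.1 key).symm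
  have h1 : ∀ x : ↥M, (x : G) ∈ center G → x ∈ Subgroup.upperCentralSeries ↥M 1 := fun x hx => by
    rw [Subgroup.upperCentralSeries_one, mem_center_iff]
    exact fun y => Subtype.ext (mem_center_iff.1 hx y)
  have h2 : ∀ x : ↥M, (x : G) ∈ A → x ∈ Subgroup.upperCentralSeries ↥M 2 := fun x hx => by
    rw [Subgroup.mem_upperCentralSeries_succ_iff]
    exact fun y => h1 _ (by simpa [commutatorElement_def] using hM y y.2 x hx)
  rw [eq_top_iff]
  rintro x -
  rw [Subgroup.mem_upperCentralSeries_succ_iff]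
  exact fun y => h2 _ (by simpa [commutatorElement_def] using hderA x x.2 y y.2)

end Cfsg.Agent.MinClass41
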